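import Groth.Agent.QFormLib.Split
import Groth.Agent.QFormLib.OddLocal
import Mathlib.Data.Matrix.Composition
import Mathlib.LinearAlgebra.Matrix.Reindex
import Mathlib.LinearAlgebra.Matrix.StdBasis

/-! Structure of the Clifford algebra of a semiregular form of odd rank. -/

namespace Groth.Agent.QFormLib

open CliffordAlgebra Matrix
open scoped TensorProduct

universe u

section Hyperbolic

variable {A : Type u} [CommRing A]

/-- Adding a hyperbolic plane turns an algebra into two by two matrices over it. -/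
theorem hyperbolic_step {N N' : Type*} [AddCommGroup N] [Module A N] [AddCommGroup N'] [Module A N']
    (T : QuadraticForm A N) (T' : QuadraticForm A N') (pr : N →ₗ[A] N') (inc : N' →ₗ[A] N) (pa pb : N →ₗ[A] A)
    (hT : ∀ x, T x = T' (pr x) + -(pa x * pb x)) (hpi : ∀ v, pr (inc v) = v) (hai : ∀ v, pa (inc v) = 0)
    (hbi : ∀ v, pb (inc v) = 0) (va : N) (hva : pr va = 0) (hva1 : pa va = 1) (hva2 : pb va = 0)
    (vb : N) (hvb : pr vb = 0) (hvb1 : pa vb = 0) (hvb2 : pb vb = 1)
    {K : Type*} [Ring K] [Algebra A K] (f : CliffordAlgebra T' →ₐ[A] K) (hf : Function.Surjective f) :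
    ∃ F : CliffordAlgebra T →ₐ[A] Matrix (Fin 2) (Fin 2) K, Function.Surjective F ∧ ∀ x, F (ι T x) =
      !![f (ι T' (pr x)), algebraMap A K (-pa x); algebraMap A K (pb x), -f (ι T' (pr x))] := by
  let g₀ : N → Matrix (Fin 2) (Fin 2) K := fun x =>
    !![f (ι T' (pr x)), algebraMap A K (-pa x); algebraMap A K (pb x), -f (ι T' (pr x))]
  let g : N →ₗ[A] Matrix (Fin 2) (Fin 2) K :=
    { toFun := g₀
      map_add' := fun x y => by
        refine Matrix.ext fun i j => ?_
        fin_cases i <;> fin_cases j <;> simp [g₀, add_comm]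
      map_smul' := fun c x => by
        refine Matrix.ext fun i j => ?_
        fin_cases i <;> fin_cases j <;> simp [g₀, Algebra.smul_def] }
  have hgx : ∀ x, g x = g₀ x := fun x => rfl
  have hg : ∀ x, g x * g x = algebraMap A _ (T x) := fun x => by
    have hfq : f (ι T' (pr x)) * f (ι T' (pr x)) = algebraMap A K (T' (pr x)) := by
      rw [← map_mul, ι_sq_scalar, AlgHom.commutes]
    have hc : ∀ r : A, f (ι T' (pr x)) * algebraMap A K r = algebraMap A K r * f (ι T' (pr x)) :=
      fun r => (Algebra.commutes r _).symm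
    have hab : algebraMap A K (pb x) * algebraMap A K (pa x) = algebraMap A K (pa x) * algebraMap A K (pb x) :=
      Algebra.commutes _ _
    refine Matrix.ext fun i j => ?_
    rw [hgx, Matrix.algebraMap_matrix_apply, hT, map_add, map_neg, map_mul]
    fin_cases i <;> fin_cases j <;>
      simp [g₀, Matrix.mul_apply, Fin.sum_univ_two, hfq, hc, hab, add_comm]
  let F := CliffordAlgebra.lift T ⟨g, hg⟩
  have hF : ∀ x, g₀ x ∈ F.range := fun x => ⟨ι T x, CliffordAlgebra.lift_ι_apply _ _ _⟩
  have h01 : Matrix.single 0 1 (1 : K) ∈ F.range := by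
    have h := Subalgebra.neg_mem _ (hF va)
    convert h using 1
    refine Matrix.ext fun i j => ?_
    fin_cases i <;> fin_cases j <;> simp [g₀, hva, hva1, hva2]
  have h10 : Matrix.single 1 0 (1 : K) ∈ F.range := by
    convert hF vb using 1
    refine Matrix.ext fun i j => ?_
    fin_cases i <;> fin_cases j <;> simp [g₀, hvb, hvb1, hvb2]
  have h00 : Matrix.single 0 0 (1 : K) ∈ F.range := by
    have h := Subalgebra.mul_mem _ h01 h10
    simpa using h
  have hK : ∀ z : CliffordAlgebra T', Matrix.single 0 0 (f z) ∈ F.range := fun z => by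
    induction z using CliffordAlgebra.induction with
    | algebraMap r =>
      have h := Subalgebra.smul_mem _ h00 r
      simpa [Matrix.smul_single, Algebra.algebraMap_eq_smul_one] using h
    | ι v =>
      have hv := Subalgebra.mul_mem _ (Subalgebra.mul_mem _ h00 (hF (inc v))) h00
      convert hv using 1
      refine Matrix.ext fun i j => ?_
      fin_cases i <;> fin_cases j <;> simp [g₀, hpi, Matrix.mul_apply, Matrix.single_apply]
    | mul x y hx hy =>
      have h := Subalgebra.mul_mem _ hx hy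
      simpa using h
    | add x y hx hy =>
      rw [map_add, Matrix.single_add]
      exact Subalgebra.add_mem _ hx hy
  have hi0 : ∀ i, Matrix.single i 0 (1 : K) ∈ F.range := fun i => by fin_cases i <;> assumption
  have h0j : ∀ j, Matrix.single 0 j (1 : K) ∈ F.range := fun j => by fin_cases j <;> assumption
  refine ⟨F, fun M => ?_, fun x => CliffordAlgebra.lift_ι_apply _ _ _⟩
  show M ∈ F.range
  rw [Matrix.matrix_eq_sum_single M]
  refine Subalgebra.sum_mem _ fun i _ => Subalgebra.sum_mem _ fun j _ => ?_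
  obtain ⟨z, hz⟩ := hf (M i j)
  have h := Subalgebra.mul_mem _ (Subalgebra.mul_mem _ (hi0 i) (hK z)) (h0j j)
  simpa [hz] using h

/-- The sum of `-x₂ᵢ x₂ᵢ₊₁` has a matrix algebra as Clifford algebra. -/
theorem nonempty_hyperbolic_matrix (m : ℕ) : ∀ T : QuadraticForm A (Fin (2 * m) → A),
    (∀ x, T x = ∑ i : Fin m, -(x ⟨2 * i, by omega⟩ * x ⟨2 * i + 1, by omega⟩)) →
    Nonempty (CliffordAlgebra T ≃ₐ[A] Matrix (Fin (2 ^ m)) (Fin (2 ^ m)) A) := by
  have key : ∀ (m : ℕ) (T : QuadraticForm A (Fin (2 * m) → A))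
      (f : CliffordAlgebra T →ₐ[A] Matrix (Fin (2 ^ m)) (Fin (2 ^ m)) A), Function.Surjective f →
      Nonempty (CliffordAlgebra T ≃ₐ[A] Matrix (Fin (2 ^ m)) (Fin (2 ^ m)) A) := fun m T f hf => by
    let bC := cliffBasis (Pi.basisFun A (Fin (2 * m))) T
    let bM := Matrix.stdBasis A (Fin (2 ^ m)) (Fin (2 ^ m))
    have hcard : Fintype.card (Finset (Fin (2 * m))) = Fintype.card (Fin (2 ^ m) × Fin (2 ^ m)) := by
      simp [two_mul, pow_add]
    let L := bM.equiv bC (Fintype.equivOfCardEq hcard).symm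
    haveI : Module.Finite A (CliffordAlgebra T) := finite_clifford (Pi.basisFun A (Fin (2 * m))) T
    have h := OrzechProperty.bijective_of_surjective_endomorphism (L.toLinearMap ∘ₗ f.toLinearMap)
      (L.surjective.comp hf)
    exact ⟨AlgEquiv.ofBijective f ⟨h.injective.of_comp (f := L), hf⟩⟩
  induction m with
  | zero =>
    intro T _
    haveI : Subsingleton (Fin (2 ^ 0)) := by rw [pow_zero]; infer_instance
    have hsq : ∀ x : Fin (2 * 0) → A, (0 : (Fin (2 * 0) → A) →ₗ[A] Matrix (Fin (2 ^ 0)) (Fin (2 ^ 0)) A) x *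
        (0 : (Fin (2 * 0) → A) →ₗ[A] Matrix (Fin (2 ^ 0)) (Fin (2 ^ 0)) A) x = algebraMap A _ (T x) := fun x => by
      rw [show x = 0 from funext fun i => absurd i.2 (by omega)]
      simp
    refine key 0 T (CliffordAlgebra.lift T ⟨0, hsq⟩) fun M => ⟨algebraMap A _ (M 0 0), ?_⟩
    rw [AlgHom.commutes]
    ext i j
    rw [Subsingleton.elim i 0, Subsingleton.elim j 0, Matrix.algebraMap_matrix_apply]
    simp
  | succ m ih =>
    intro T hT
    let inc : (Fin (2 * m) → A) →ₗ[A] (Fin (2 * (m + 1)) → A) :=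
      { toFun := fun y i => if h : (i : ℕ) < 2 * m then y ⟨i, h⟩ else 0
        map_add' := fun y z => by funext i; simp only [Pi.add_apply]; split_ifs <;> simp
        map_smul' := fun c y => by funext i; simp only [Pi.smul_apply, RingHom.id_apply]; split_ifs <;> simp }
    let T' := T.comp inc
    have hT' : ∀ y, T' y = ∑ i : Fin m, -(y ⟨2 * i, by omega⟩ * y ⟨2 * i + 1, by omega⟩) := fun y => by
      rw [show T' y = T (inc y) from rfl, hT, Fin.sum_univ_castSucc]
      have e : ∀ (k : ℕ) (hk : k < 2 * (m + 1)), k < 2 * m → ∀ hk', inc y ⟨k, hk⟩ = y ⟨k, hk'⟩ :=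
        fun k hk h hk' => dif_pos h
      have e' : ∀ (k : ℕ) (hk : k < 2 * (m + 1)), ¬k < 2 * m → inc y ⟨k, hk⟩ = 0 := fun k hk h => dif_neg h
      simp only [Fin.coe_castSucc, Fin.val_last]
      rw [e' _ _ (by omega), zero_mul, neg_zero, add_zero]
      exact Finset.sum_congr rfl fun i _ => by
        rw [e _ _ (by omega) (by omega), e _ _ (by omega) (by omega)]
    obtain ⟨f⟩ := ih T' hT'
    let pr : (Fin (2 * (m + 1)) → A) →ₗ[A] (Fin (2 * m) → A) := LinearMap.funLeft A A (Fin.castLE (by omega))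
    let ia : Fin (2 * (m + 1)) := ⟨2 * m, by omega⟩
    let ib : Fin (2 * (m + 1)) := ⟨2 * m + 1, by omega⟩
    have hpi : ∀ v, pr (inc v) = v := fun v => by
      funext i; exact dif_pos (show ((Fin.castLE _ i : Fin (2 * (m + 1))) : ℕ) < 2 * m from i.2)
    have hps : ∀ k : Fin (2 * (m + 1)), 2 * m ≤ k → pr (Pi.single k 1) = 0 := fun k hk => by
      funext i
      refine Pi.single_eq_of_ne (fun e => ?_) _
      have h1 : (i : ℕ) = (k : ℕ) := congrArg Fin.val e
      have := i.2
      omega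
    obtain ⟨F, hFs, -⟩ := hyperbolic_step T T' pr inc (LinearMap.proj ia) (LinearMap.proj ib)
      (fun x => by rw [hT, hT', Fin.sum_univ_castSucc]; rfl)
      hpi (fun v => dif_neg (by simp [ia])) (fun v => dif_neg (by simp [ib]))
      (Pi.single ia 1) (hps ia le_rfl) (Pi.single_eq_same _ _) (Pi.single_eq_of_ne (by simp [ia, ib, Fin.ext_iff]) _)
      (Pi.single ib 1) (hps ib (Nat.le_succ _)) (Pi.single_eq_of_ne (by simp [ia, ib, Fin.ext_iff]) _) (Pi.single_eq_same _ _)
      f.toAlgHom f.surjective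
    let e₂ : Fin 2 × Fin (2 ^ m) ≃ Fin (2 ^ (m + 1)) := finProdFinEquiv.trans (finCongr (by rw [pow_succ, mul_comm]))
    let c : Matrix (Fin 2) (Fin 2) (Matrix (Fin (2 ^ m)) (Fin (2 ^ m)) A) ≃ₐ[A] Matrix (Fin (2 ^ (m + 1))) (Fin (2 ^ (m + 1))) A :=
      (Matrix.compAlgEquiv (Fin 2) (Fin (2 ^ m)) A A).trans (Matrix.reindexAlgEquiv A A e₂)
    exact key (m + 1) T (c.toAlgHom.comp F) (c.surjective.comp hFs)

end Hyperbolic

section Centre

variable {R : Type u} [CommRing R] {M : Type u} [AddCommGroup M] [Module R M]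
variable {n m : ℕ} (b : Module.Basis (Fin n) R M) (Q : QuadraticForm R M) (hn : n = 2 * m + 1)
  (hQ : IsUnit (QuadGrp.halfDisc b (LinearEquiv.refl R R) Q))

/-- Multiplication of the centre and the even part. -/
noncomputable def centreMul :
    Subalgebra.center R (CliffordAlgebra Q) ⊗[R] ↥(CliffordAlgebra.even Q) →ₗ[R] CliffordAlgebra Q :=
  TensorProduct.lift (((LinearMap.mul R (CliffordAlgebra Q)).comp
    (Subalgebra.center R (CliffordAlgebra Q)).val.toLinearMap).compl₂ (CliffordAlgebra.even Q).val.toLinearMap)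

include hn hQ in
theorem centreMul_bijective : Function.Bijective (centreMul Q) := by
  have hWc : wEl b Q ∈ Subalgebra.center R (CliffordAlgebra Q) :=
    Subalgebra.mem_center_iff.mpr fun x => (wEl_comm_all_odd b Q hn x).symm
  let W : Subalgebra.center R (CliffordAlgebra Q) := ⟨wEl b Q, hWc⟩
  have hW := isUnit_wEl_odd b Q hn hQ
  have happ : ∀ (z : Subalgebra.center R (CliffordAlgebra Q)) (y : CliffordAlgebra.even Q),
      centreMul Q (z ⊗ₜ y) = z.1 * y.1 := fun z y => rfl
  have hrep : ∀ t, ∃ y0 y1 : ↥(CliffordAlgebra.even Q), t = (1 : Subalgebra.center R (CliffordAlgebra Q)) ⊗ₜ[R] y0 + W ⊗ₜ y1 := fun t => by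
    induction t using TensorProduct.induction_on with
    | zero => exact ⟨0, 0, by simp⟩
    | tmul z y =>
      obtain ⟨a, r, hz⟩ := exists_of_center b Q hn hQ (x := z.1) fun v => (Subalgebra.mem_center_iff.mp z.2 _).symm
      refine ⟨a • y, r • y, ?_⟩
      rw [show z = a • 1 + r • W from Subtype.ext (by simpa [Algebra.algebraMap_eq_smul_one, W] using hz),
        TensorProduct.add_tmul, TensorProduct.smul_tmul, TensorProduct.smul_tmul]
    | add s t hs ht =>
      obtain ⟨s0, s1, rfl⟩ := hs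
      obtain ⟨t0, t1, rfl⟩ := ht
      exact ⟨s0 + t0, s1 + t1, by rw [TensorProduct.tmul_add, TensorProduct.tmul_add]; abel⟩
  refine ⟨(injective_iff_map_eq_zero _).mpr fun t ht => ?_, fun x => ?_⟩
  · obtain ⟨y0, y1, rfl⟩ := hrep t
    rw [map_add, happ, happ, OneMemClass.coe_one, one_mul] at ht
    have h1 : wEl b Q * y1.1 ∈ evenOdd Q 1 :=
      add_zero (1 : ZMod 2) ▸ SetLike.mul_mem_graded (wEl_mem_odd b Q hn) y1.2
    have hy0 : y0.1 = 0 := Submodule.disjoint_def.mp (evenOdd_isCompl Q).disjoint _ y0.2 (by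
      rw [eq_neg_of_add_eq_zero_left ht]; exact Submodule.neg_mem _ h1)
    rw [hy0, zero_add] at ht
    rw [show y0 = 0 from Subtype.ext hy0, show y1 = 0 from Subtype.ext (hW.mul_right_eq_zero.mp ht)]
    simp
  · obtain ⟨x0, h0, x1, h1, rfl⟩ := exists_even_odd_decomp Q x
    obtain ⟨d, hd⟩ := ((isUnit_neg_one (α := R)).pow m).mul hQ
    refine ⟨1 ⊗ₜ ⟨x0, h0⟩ + W ⊗ₜ ⟨(↑d⁻¹ : R) • (wEl b Q * x1),
      Submodule.smul_mem _ _ (mul_mem_zero_of_odd Q (wEl_mem_odd b Q hn) h1)⟩, ?_⟩
    rw [map_add, happ, happ, OneMemClass.coe_one, one_mul]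
    congr 1
    show wEl b Q * ((↑d⁻¹ : R) • (wEl b Q * x1)) = x1
    rw [mul_smul_comm, ← mul_assoc, wEl_sq_odd b Q hn, ← hd, ← Algebra.smul_def, smul_smul, Units.inv_mul, one_smul]

end Centre

section Even

variable {R : Type u} [CommRing R] {M : Type u} [AddCommGroup M] [Module R M] {n : ℕ}
variable (A : Type u) [CommRing A] [Algebra R A] {N : Type u} [AddCommGroup N] [Module A N] [Module R N]
  [IsScalarTower R A N]
variable {b : Module.Basis (Fin n) R M} {Q : QuadraticForm R M} {c : Module.Basis (Fin n) A N}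
  {Q' : QuadraticForm A N} (h : Compat (algebraMap R A) b Q c Q')

include h in
/-- The comparison of a base change of the even Clifford algebra. -/
theorem exists_even_baseChange :
    Nonempty ((A ⊗[R] ↥(CliffordAlgebra.even Q)) ≃ₐ[A] ↥(CliffordAlgebra.even Q')) := by
  classical
  let f₀ : ↥(CliffordAlgebra.even Q) →ₐ[R] ↥(CliffordAlgebra.even Q') :=
    { toFun := fun y => ⟨cmap h y.1, cmap_mem_evenOdd h y.2⟩
      map_one' := Subtype.ext (map_one (cmap h))
      map_mul' := fun x y => Subtype.ext (map_mul (cmap h) _ _)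
      map_zero' := Subtype.ext (map_zero (cmap h))
      map_add' := fun x y => Subtype.ext (map_add (cmap h) _ _)
      commutes' := fun r => Subtype.ext ((cmap_algebraMap h r).trans (by
        exact (IsScalarTower.algebraMap_apply R A (CliffordAlgebra Q') r).symm)) }
  let f := Algebra.TensorProduct.lift (Algebra.ofId A ↥(CliffordAlgebra.even Q')) f₀ fun a y => Algebra.commutes a _
  have hmem : ∀ S : Finset (Fin n), (S.card : ZMod 2) = 0 → prodE b Q S ∈ CliffordAlgebra.even Q := fun S hS =>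
    show prodE b Q S ∈ evenOdd Q 0 from hS ▸ prodE_mem_evenOdd b Q S
  let P : Finset (Fin n) → ↥(CliffordAlgebra.even Q) := fun S =>
    if hS : (S.card : ZMod 2) = 0 then ⟨prodE b Q S, hmem S hS⟩ else 0
  let g : ↥(CliffordAlgebra.even Q') →ₗ[A] A ⊗[R] ↥(CliffordAlgebra.even Q) :=
    ∑ S, ((κ c Q' S).comp (CliffordAlgebra.even Q').val.toLinearMap).smulRight ((1 : A) ⊗ₜ[R] P S)
  have hg : ∀ y, g y = ∑ S, κ c Q' S y.1 • ((1 : A) ⊗ₜ[R] P S) := fun y => by
    simp only [g, LinearMap.sum_apply]; rfl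
  have hgf : ∀ t, g (f t) = t := fun t => by
    induction t using TensorProduct.induction_on with
    | zero => simp
    | tmul a y =>
      have ha : ∀ S, κ c Q' S (f (a ⊗ₜ y)).1 = a * algebraMap R A (κ b Q S y.1) := fun S => by
        rw [← κ_cmap h, ← smul_eq_mul, ← map_smul, Algebra.smul_def]
        rfl
      rw [hg]
      have hy : y = ∑ S, κ b Q S y.1 • P S := Subtype.ext (by
        rw [AddSubmonoidClass.coe_finsetSum]
        conv_lhs => rw [eq_sum_κ b Q y.1]
        refine Finset.sum_congr rfl fun S _ => ?_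
        by_cases hS : (S.card : ZMod 2) = 0
        · simp [P, hS]
        · simp [P, hS, κ_eq_zero_of_parity b Q y.2 hS])
      conv_rhs => rw [hy, TensorProduct.tmul_sum]
      refine Finset.sum_congr rfl fun S _ => ?_
      rw [ha, TensorProduct.smul_tmul', smul_eq_mul, mul_one, ← TensorProduct.smul_tmul, Algebra.smul_def, mul_comm]
    | add s t hs ht => rw [map_add, map_add, hs, ht]
  refine ⟨AlgEquiv.ofBijective f ⟨Function.LeftInverse.injective hgf, fun y => ⟨g y, Subtype.ext ?_⟩⟩⟩
  rw [hg, map_sum, AddSubmonoidClass.coe_finsetSum]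
  conv_rhs => rw [eq_sum_κ c Q' y.1]
  refine Finset.sum_congr rfl fun S _ => ?_
  rw [map_smul]
  by_cases hS : (S.card : ZMod 2) = 0
  · show κ c Q' S y.1 • ((algebraMap A ↥(CliffordAlgebra.even Q') 1 * f₀ (P S)) : ↥(CliffordAlgebra.even Q')).1 = _
    rw [map_one, one_mul]
    simp only [P, dif_pos hS]
    exact congrArg _ (cmap_prodE h S)
  · rw [κ_eq_zero_of_parity c Q' y.2 hS, zero_smul, zero_smul]; rfl

end Even

section Main

variable {R : Type u} [CommRing R] {M : Type u} [AddCommGroup M] [Module R M]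

/-- The even Clifford algebra is fppf locally a matrix algebra. -/
theorem exists_even_matrix {m : ℕ} (b : Module.Basis (Fin (2 * m + 1)) R M) (Q : QuadraticForm R M)
    (hQ : IsUnit (QuadGrp.halfDisc b (LinearEquiv.refl R R) Q)) :
    ∃ (R' : Type u) (_ : CommRing R') (_ : Algebra R R'), Module.FaithfullyFlat R R' ∧ Algebra.FinitePresentation R R' ∧
      Nonempty ((R' ⊗[R] ↥(CliffordAlgebra.even Q)) ≃ₐ[R'] Matrix (Fin (2 ^ m)) (Fin (2 ^ m)) R') := by
  set a := QuadGrp.coeffs b (LinearEquiv.refl R R) Q with ha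
  have hQa : IsUnit (QuadGrp.halfDisc (Pi.basisFun R (Fin (2 * m + 1))) (LinearEquiv.refl R R) (formOfTbl a)) := by
    rw [← spec_halfDisc, spec, coeffs_formOfTbl, ha]
    rw [← spec_halfDisc, spec] at hQ
    exact hQ
  obtain ⟨A, _, _, hff, hfp, φ, hφ⟩ := split_of_semiregular m R a hQa
  refine ⟨A, inferInstance, inferInstance, hff, hfp, ?_⟩
  let QA := formOfTbl (algebraMap R A ∘ a)
  have hc : Compat (algebraMap R A) b Q (Pi.basisFun A (Fin (2 * m + 1))) QA :=
    compat_of_coeffs _ _ _ _ fun s => by rw [coeffs_formOfTbl]; rfl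
  obtain ⟨e₁⟩ := exists_even_baseChange A hc
  let d : Module.Basis (Fin (2 * m + 1)) A (Fin (2 * m + 1) → A) := (Pi.basisFun A _).map φ
  have hd : ∀ i, d i = φ (Pi.single i 1) := fun i => by simp [d]
  have hsplit : ∀ x : Fin (2 * m + 1) → A, QuadGrp.splitForm A (2 * m + 1) x =
      (∑ i : Fin m, x ⟨2 * i + 1, by omega⟩ * x ⟨2 * i + 2, by omega⟩) + x 0 * x 0 := fun x => by
    have e1 : (2 * m + 1) % 2 = 1 := by omega
    simp only [QuadGrp.splitForm, _root_.QuadraticMap.add_apply, _root_.QuadraticMap.sum_apply,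
      QuadraticMap.linMulLin_apply, LinearMap.proj_apply, dif_pos e1, QuadraticMap.comp_apply]
    rw [← Equiv.sum_comp (finCongr (show m = (2 * m + 1) / 2 by omega))]
    congr 1
    exact Finset.sum_congr rfl fun i _ => by
      congr 1 <;> congr 1 <;> apply Fin.ext <;> simp
  have hd0 : QA (d 0) = 1 := by
    rw [hd, hφ, hsplit]; simp [Pi.single_apply, Fin.ext_iff]
  have horth : ∀ j : Fin (2 * m), QuadraticMap.polar QA (d 0) (d j.succ) = 0 := fun j => by
    simp only [QuadraticMap.polar, hd]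
    rw [← map_add φ]
    simp only [QA, hφ, hsplit]
    have h1 : ∀ i : Fin m, (Pi.single 0 1 : Fin (2 * m + 1) → A) ⟨2 * i + 1, by omega⟩ = 0 := fun i => by
      simp [Pi.single_apply, Fin.ext_iff]
    have h2 : ∀ i : Fin m, (Pi.single 0 1 : Fin (2 * m + 1) → A) ⟨2 * i + 2, by omega⟩ = 0 := fun i => by
      simp [Pi.single_apply, Fin.ext_iff]
    simp [h1, h2, (Fin.succ_ne_zero j).symm, Finset.sum_add_distrib]
  have hT : ∀ x, tailForm d QA x = ∑ i : Fin m, -(x ⟨2 * i, by omega⟩ * x ⟨2 * i + 1, by omega⟩) := fun x => by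
    have hm : tailMap d x = φ (Fin.cons 0 x) := by
      have hx : (Fin.cons 0 x : Fin (2 * m + 1) → A) = ∑ j : Fin (2 * m), x j • Pi.single j.succ 1 := by
        funext k
        refine Fin.cases ?_ (fun k => ?_) k <;> simp [Finset.sum_apply, Pi.single_apply, Fin.succ_ne_zero]
      rw [hx, map_sum, tailMap, Fintype.linearCombination_apply]
      exact Finset.sum_congr rfl fun j _ => by rw [map_smul, hd]
    rw [tailForm, _root_.QuadraticMap.smul_apply, QuadraticMap.comp_apply, hm, hφ, hd0, hsplit, smul_eq_mul,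
      Fin.cons_zero, mul_zero, add_zero, neg_one_mul, ← Finset.sum_neg_distrib]
    refine Finset.sum_congr rfl fun i _ => ?_
    rw [show (⟨2 * i + 1, by omega⟩ : Fin (2 * m + 1)) = Fin.succ ⟨2 * i, by omega⟩ from rfl, Fin.cons_succ,
      show (⟨2 * i + 2, by omega⟩ : Fin (2 * m + 1)) = Fin.succ ⟨2 * i + 1, by omega⟩ from rfl, Fin.cons_succ]
  obtain ⟨e₃⟩ := nonempty_hyperbolic_matrix m (tailForm d QA) hT
  have hu : IsUnit (QA (d 0)) := hd0 ▸ isUnit_one
  let θ : CliffordAlgebra (tailForm d QA) →ₐ[A] ↥(CliffordAlgebra.even QA) :=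
    (theta horth).codRestrict _ fun x => theta_mem horth x
  have hθ : Function.Bijective θ := by
    refine ⟨fun x y hxy => theta_injective horth hu (congrArg Subtype.val hxy), fun y => ?_⟩
    obtain ⟨x, hx⟩ := theta_surjective horth hu y.2
    exact ⟨x, Subtype.ext hx⟩
  exact ⟨e₁.trans ((AlgEquiv.ofBijective θ hθ).symm.trans e₃)⟩

end Main

end Groth.Agent.QFormLib
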